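import Groth.Agent.Lib.SmoothRed.Basic
import Groth.Agent.Lib.Hens.Normal
import Mathlib.RingTheory.Smooth.Flat
import Mathlib.RingTheory.Etale.Basic
import Mathlib.RingTheory.Unramified.LocalRing
import Mathlib.RingTheory.Flat.Localization
import Mathlib.RingTheory.Localization.BaseChange
import Mathlib.RingTheory.Localization.LocalizationLocalization
import Mathlib.RingTheory.Ideal.GoingDown
import Mathlib.RingTheory.Ideal.KrullsHeightTheorem

/-!
# The local homomorphism of an étale ring map at a prime
-/

set_option autoImplicit false

universe u

open TensorProduct

namespace Groth.Agent.EtaleLocal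

section

variable {A B : Type u} [CommRing A] [CommRing B] [Algebra A B] [Algebra.Etale A B]
  (p : Ideal A) [p.IsPrime] (q : Ideal B) [q.IsPrime] [q.LiesOver p]
  [Algebra (Localization.AtPrime p) (Localization.AtPrime q)]
  [IsScalarTower A (Localization.AtPrime p) (Localization.AtPrime q)]

include p q

theorem isLocalHom_algebraMap :
    IsLocalHom (algebraMap (Localization.AtPrime p) (Localization.AtPrime q)) := by
  have : algebraMap (Localization.AtPrime p) (Localization.AtPrime q) =
      Localization.localRingHom p q (algebraMap A B) (Ideal.LiesOver.over (p := p) (P := q)) := by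
    refine IsLocalization.ringHom_ext p.primeCompl ?_
    ext a
    simp only [RingHom.comp_apply, Localization.localRingHom_to_map,
      ← IsScalarTower.algebraMap_apply A B (Localization.AtPrime q),
      ← IsScalarTower.algebraMap_apply A (Localization.AtPrime p) (Localization.AtPrime q)]
  rw [this]
  exact Localization.isLocalHom_localRingHom p q _ _

theorem flat : Module.Flat (Localization.AtPrime p) (Localization.AtPrime q) := by
  have : Module.Flat A (Localization.AtPrime q) := Module.Flat.trans A B (Localization.AtPrime q)
  rw [Module.flat_iff_of_isLocalization (Localization.AtPrime p) p.primeCompl]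
  infer_instance

theorem faithfullyFlat : Module.FaithfullyFlat (Localization.AtPrime p) (Localization.AtPrime q) :=
  have := flat p q
  have := isLocalHom_algebraMap p q
  Module.FaithfullyFlat.of_flat_of_isLocalHom

theorem essFiniteType : Algebra.EssFiniteType (Localization.AtPrime p) (Localization.AtPrime q) :=
  have : Algebra.EssFiniteType A (Localization.AtPrime q) :=
    Algebra.EssFiniteType.comp A B (Localization.AtPrime q)
  Algebra.EssFiniteType.of_comp A _ _

theorem formallyUnramified :
    Algebra.FormallyUnramified (Localization.AtPrime p) (Localization.AtPrime q) :=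
  have : Algebra.FormallyUnramified A (Localization.AtPrime q) :=
    Algebra.FormallyUnramified.comp A B _
  Algebra.FormallyUnramified.of_restrictScalars A _ _

/-- The local ring upstairs is a localization of a smooth algebra over the one downstairs. -/
theorem exists_smooth_localization :
    ∃ (T : Type u) (_ : CommRing T) (_ : Algebra (Localization.AtPrime p) T)
      (_ : Algebra T (Localization.AtPrime q))
      (_ : IsScalarTower (Localization.AtPrime p) T (Localization.AtPrime q)) (N : Submonoid T),
      IsLocalization N (Localization.AtPrime q) ∧ Algebra.Smooth (Localization.AtPrime p) T := by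
  let T := Localization.AtPrime p ⊗[A] B
  let φ : T →ₐ[A] Localization.AtPrime q := Algebra.TensorProduct.productMap
    (IsScalarTower.toAlgHom A (Localization.AtPrime p) (Localization.AtPrime q))
    (IsScalarTower.toAlgHom A B (Localization.AtPrime q))
  let : Algebra T (Localization.AtPrime q) := φ.toRingHom.toAlgebra
  have : IsScalarTower (Localization.AtPrime p) T (Localization.AtPrime q) :=
    IsScalarTower.of_algebraMap_eq fun x => by
      change _ = φ (x ⊗ₜ 1)
      exact (Eq.trans (Algebra.TensorProduct.productMap_apply_tmul _ _ x (1 : B)) (by simp)).symm
  let : Algebra B T := Algebra.TensorProduct.rightAlgebra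
  have : IsScalarTower B T (Localization.AtPrime q) := IsScalarTower.of_algebraMap_eq fun x => by
    change _ = φ (1 ⊗ₜ x)
    exact (Eq.trans (Algebra.TensorProduct.productMap_apply_tmul _ _ (1 : Localization.AtPrime p) x) (by simp)).symm
  have : IsLocalization (Algebra.algebraMapSubmonoid B p.primeCompl) T :=
    IsLocalization.tensorRight (Localization.AtPrime p) p.primeCompl
  refine ⟨T, inferInstance, inferInstance, inferInstance, inferInstance,
    q.primeCompl.map (algebraMap B T), ?_, inferInstance⟩
  refine IsLocalization.isLocalization_of_submonoid_le T (Localization.AtPrime q)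
    (Algebra.algebraMapSubmonoid B p.primeCompl) q.primeCompl ?_
  rintro _ ⟨a, ha, rfl⟩ hq
  exact ha ((Ideal.LiesOver.over (p := p) (P := q)) ▸ hq)

theorem isReduced_iff :
    IsReduced (Localization.AtPrime q) ↔ IsReduced (Localization.AtPrime p) := by
  constructor
  · intro _
    have := faithfullyFlat p q
    exact isReduced_of_injective _ (FaithfulSMul.algebraMap_injective (Localization.AtPrime p) (Localization.AtPrime q))
  · intro _
    obtain ⟨T, _, _, _, _, N, hN, hT⟩ := exists_smooth_localization p q
    have : IsReduced T := Groth.Agent.SmoothRed.isReduced_of_smooth (Localization.AtPrime p) T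
    exact isReduced_localizationPreserves N (Localization.AtPrime q) inferInstance

theorem isNormal_iff :
    (IsDomain (Localization.AtPrime q) ∧ IsIntegrallyClosed (Localization.AtPrime q)) ↔
      (IsDomain (Localization.AtPrime p) ∧ IsIntegrallyClosed (Localization.AtPrime p)) := by
  constructor
  · rintro ⟨_, _⟩
    have := faithfullyFlat p q
    exact Groth.Agent.Hens.isIntegrallyClosed_of_faithfullyFlat _ (Localization.AtPrime q)
  · rintro ⟨_, _⟩
    have := flat p q
    have := essFiniteType p q
    have := formallyUnramified p q
    obtain ⟨T, _, _, _, _, N, hN, hT⟩ := exists_smooth_localization p q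
    refine Groth.Agent.Hens.isDomain_isIntegrallyClosed_of_toIntegralClosure
      (Localization.AtPrime p) (Localization.AtPrime q) ?_
    exact TensorProduct.toIntegralClosure_bijective_of_tower (S := T)
      TensorProduct.toIntegralClosure_bijective_of_smooth
      (TensorProduct.toIntegralClosure_bijective_of_isLocalization N)

theorem ringKrullDim_eq [IsNoetherianRing A] :
    ringKrullDim (Localization.AtPrime q) = ringKrullDim (Localization.AtPrime p) := by
  have := isLocalHom_algebraMap p q
  have := flat p q
  have := essFiniteType p q
  have := formallyUnramified p q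
  have : IsNoetherianRing (Localization.AtPrime q) :=
    Algebra.EssFiniteType.isNoetherianRing (Localization.AtPrime p) _
  rw [← IsLocalRing.maximalIdeal_height_eq_ringKrullDim,
    ← IsLocalRing.maximalIdeal_height_eq_ringKrullDim (R := Localization.AtPrime p)]
  congr 1
  set M := IsLocalRing.maximalIdeal (Localization.AtPrime q)
  set m := IsLocalRing.maximalIdeal (Localization.AtPrime p)
  have : M.LiesOver m := Ideal.LiesOver.mk (IsLocalRing.maximalIdeal_comap
    (algebraMap (Localization.AtPrime p) (Localization.AtPrime q))).symm
  have hm : m.map (algebraMap (Localization.AtPrime p) (Localization.AtPrime q)) = M :=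
    Algebra.FormallyUnramified.map_maximalIdeal
  rw [Ideal.height_eq_height_add_of_liesOver_of_hasGoingDown m M]
  have : (M.map (Ideal.Quotient.mk (m.map (algebraMap (Localization.AtPrime p) (Localization.AtPrime q))))) = ⊥ := by
    rw [hm]
    exact Ideal.map_quotient_self M
  rw [this]
  have : IsDomain (Localization.AtPrime q ⧸ m.map (algebraMap (Localization.AtPrime p) (Localization.AtPrime q))) := by
    rw [hm]
    infer_instance
  rw [Ideal.height_bot, add_zero]

end

end Groth.Agent.EtaleLocal
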