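import Groth.Agent.Lib.EtaleLocal.Ring
import Mathlib.AlgebraicGeometry.Morphisms.Etale
import Mathlib.AlgebraicGeometry.Noetherian

/-!
# Stalks of étale morphisms of schemes
-/

set_option autoImplicit false

universe u

open AlgebraicGeometry CategoryTheory

namespace Groth.Agent.EtaleLocal

/-- To compare a property of the stalks along an étale morphism it suffices to compare the local rings
of an étale ring map. -/
theorem stalk_iff {X Y : Scheme.{u}} (f : X ⟶ Y) [Etale f] [IsLocallyNoetherian Y] (x : X)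
    {P : ∀ (R : Type u) [CommRing R], Prop}
    (hP : ∀ (R S : Type u) [CommRing R] [CommRing S], R ≃+* S → (P R ↔ P S))
    (h : ∀ (A B : Type u) [CommRing A] [CommRing B] [Algebra A B] [Algebra.Etale A B] [IsNoetherianRing A]
      (p : Ideal A) [p.IsPrime] (q : Ideal B) [q.IsPrime] [q.LiesOver p]
      [Algebra (Localization.AtPrime p) (Localization.AtPrime q)]
      [IsScalarTower A (Localization.AtPrime p) (Localization.AtPrime q)],
      P (Localization.AtPrime q) ↔ P (Localization.AtPrime p)) :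
    P (X.presheaf.stalk x) ↔ P (Y.presheaf.stalk (f x)) := by
  obtain ⟨V, hV, hfx, -⟩ :=
    exists_isAffineOpen_mem_and_subset (X := Y) (x := f x) (U := ⊤) trivial
  obtain ⟨U, hU, hxU, hUV⟩ := exists_isAffineOpen_mem_and_subset (U := f ⁻¹ᵁ V) hfx
  have he := HasRingHomProperty.appLE (P := @Etale) f inferInstance ⟨V, hV⟩ ⟨U, hU⟩ hUV
  algebraize [(f.appLE V U hUV).hom]
  have : IsNoetherianRing Γ(Y, V) := IsLocallyNoetherian.component_noetherian ⟨V, hV⟩
  let p := (hV.primeIdealOf ⟨f x, hUV hxU⟩).asIdeal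
  let q := (hU.primeIdealOf ⟨x, hxU⟩).asIdeal
  have : q.LiesOver p :=
    ⟨congr($(IsAffineOpen.comap_primeIdealOf_appLE V hV U hU hUV hxU).1).symm⟩
  let := Localization.AtPrime.algebraOfLiesOver p q
  let := Y.presheaf.algebra_section_stalk ⟨f x, hUV hxU⟩
  let := X.presheaf.algebra_section_stalk ⟨x, hxU⟩
  have hy : IsLocalization.AtPrime (Y.presheaf.stalk (f x)) p := hV.isLocalization_stalk ⟨f x, hUV hxU⟩
  have hx : IsLocalization.AtPrime (X.presheaf.stalk x) q := hU.isLocalization_stalk ⟨x, hxU⟩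
  rw [← hP _ _ (IsLocalization.algEquiv q.primeCompl (Localization.AtPrime q) (X.presheaf.stalk x)).toRingEquiv,
    ← hP _ _ (IsLocalization.algEquiv p.primeCompl (Localization.AtPrime p) (Y.presheaf.stalk (f x))).toRingEquiv]
  exact h Γ(Y, V) Γ(X, U) p q

end Groth.Agent.EtaleLocal
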